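/-
Normalisers of quadratic fields of symplectic type are maximal in `Sp_4`, even characteristic.
-/
import Cfsg.Agent.Lib.MaxSub.SubfieldMaximalSp
import Cfsg.Agent.Lib.Aschbacher.SympProper

set_option autoImplicit false
set_option maxHeartbeats 800000
set_option linter.unusedSectionVars false

namespace CfsgLib.MaxSub.SpFourField

open Matrix Module Cfsg Cfsg.Geo CfsgLib.MaxSub.SubfieldSp
open CfsgLib.Aschbacher (sT sT_mem sT_mulVec sympForm_alt isRefl_sympForm)

variable {F : Type*} [Field F]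

local notation "ι" => (Fin 2 ⊕ Fin 2)
local notation "V" => (Fin 2 ⊕ Fin 2 → F)
local notation "M4" => Matrix (Fin 2 ⊕ Fin 2) (Fin 2 ⊕ Fin 2) F
local notation "f" => pairing (m := 2) (1 : F)
local notation "S" => Sg (m := 2) (1 : F)

/-- A quadratic field with self-adjoint generator. -/
structure QF (θ : Matrix (Fin 2 ⊕ Fin 2) (Fin 2 ⊕ Fin 2) F) (α β : F) : Prop where
  two : (2 : F) = 0
  sq : ∀ x, θ *ᵥ (θ *ᵥ x) = α • (θ *ᵥ x) + β • x
  adj : ∀ x y, pairing (m := 2) (1 : F) (θ *ᵥ x) y = pairing 1 x (θ *ᵥ y)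
  alt : ∀ x, pairing (m := 2) (1 : F) (θ *ᵥ x) x = 0
  norm : ∀ x y : F, x * x + α * x * y + β * (y * y) = 0 → x = 0 ∧ y = 0

variable {θ : Matrix (Fin 2 ⊕ Fin 2) (Fin 2 ⊕ Fin 2) F} {α β : F}

theorem QF.orth (Q : QF θ α β) (v : V) : f v (θ *ᵥ v) = 0 := by
  rw [← Q.adj]; exact Q.alt v

theorem QF.alpha (Q : QF θ α β) [Finite F] : α ≠ 0 := fun h => by
  haveI : CharP F 2 := CharTwo.of_one_ne_zero_of_two_eq_zero one_ne_zero Q.two
  obtain ⟨y, hy⟩ := FiniteField.isSquare_of_char_two (ringChar.eq F 2) β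
  exact one_ne_zero (α := F) (Q.norm y 1 (by rw [h, hy]; linear_combination (y * y) * Q.two)).2

theorem eq_zero_of_orth {d : V} (h : ∀ y, f d y = 0) : d = 0 := by
  by_contra hd
  obtain ⟨-, y, hy⟩ := (isRefl_sympForm (F := F) 2).nondeg d hd
  exact hy (by simpa [pairing] using h y)

/-- The elements of the centraliser on a line over the field. -/
theorem QF.comm (Q : QF θ α β) (v : V) {m₁ m₂ m₃ : F} (hm : m₁ + α * m₂ + β * m₃ = 0) (x : V) :
    (S v (θ *ᵥ v) m₁ m₂ m₃ : M4) *ᵥ (θ *ᵥ x) = θ *ᵥ ((S v (θ *ᵥ v) m₁ m₂ m₃ : M4) *ᵥ x) := by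
  have e1 : f (θ *ᵥ x) v = f x (θ *ᵥ v) := Q.adj x v
  have e2 : f (θ *ᵥ x) (θ *ᵥ v) = α * f x (θ *ᵥ v) + β * f x v := by
    rw [Q.adj, Q.sq, f_add_right, f_smul_right, f_smul_right]
  rw [Sg_mulVec (Q.orth v), Sg_mulVec (Q.orth v), Matrix.mulVec_add, Matrix.mulVec_add,
    Matrix.mulVec_smul, Matrix.mulVec_smul, Q.sq, e1, e2]
  match_scalars
  · ring
  · linear_combination (f x (θ *ᵥ v)) * hm - (f x (θ *ᵥ v) * (β * m₃)) * Q.two
  · linear_combination (-(f x v)) * hm + (f x v * (β * m₃)) * Q.two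

/-- A group containing the centraliser elements and contained in `Sp_4`. -/
structure Ov (θ : Matrix (Fin 2 ⊕ Fin 2) (Fin 2 ⊕ Fin 2) F) (α β : F)
    (K : Subgroup (GL (Fin 2 ⊕ Fin 2) F)) : Prop where
  le : K ≤ Cfsg.spGL 2 F
  mem : ∀ v, ∀ m₁ m₂ m₃ : F, m₁ + α * m₂ + β * m₃ = 0 → Sg (m := 2) 1 v (θ *ᵥ v) m₁ m₂ m₃ ∈ K

variable {K : Subgroup (GL (Fin 2 ⊕ Fin 2) F)}

theorem QF.mem_line (Q : QF θ α β) {a z : V} {x y : F} (hxy : ¬ (x = 0 ∧ y = 0))
    (h : ∃ s t : F, x • z + y • (θ *ᵥ z) = s • a + t • (θ *ᵥ a)) :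
    ∃ s t : F, z = s • a + t • (θ *ᵥ a) := by
  obtain ⟨s, t, e⟩ := h
  have hN : x * x + α * x * y + β * (y * y) ≠ 0 := fun h0 => hxy (Q.norm x y h0)
  obtain ⟨N, hN'⟩ : ∃ N, N = x * x + α * x * y + β * (y * y) := ⟨_, rfl⟩
  rw [← hN'] at hN
  have e' : N • z = ((x + α * y) * s + y * t * β) • a + ((x + α * y) * t + y * s + y * t * α) • (θ *ᵥ a) := by
    have h1 := congrArg (fun w => (x + α * y) • w + y • (θ *ᵥ w)) e
    simp only [Matrix.mulVec_add, Matrix.mulVec_smul, Q.sq] at h1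
    rw [show N • z = (x + α * y) • (x • z + y • θ *ᵥ z) + y • (x • θ *ᵥ z + y • (α • θ *ᵥ z + β • z)) by
      rw [hN']
      match_scalars
      · ring
      · linear_combination -(x * y + α * (y * y)) * Q.two, h1]
    module
  refine ⟨N⁻¹ * ((x + α * y) * s + y * t * β),
    N⁻¹ * ((x + α * y) * t + y * s + y * t * α), ?_⟩
  rw [← one_smul F z, ← inv_mul_cancel₀ hN, ← smul_smul, e']
  module

/-- The four vectors of two lines are independent. -/
theorem QF.indep (Q : QF θ α β) {a z : V} (ha : a ≠ 0)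
    (hz : ∀ s t : F, z ≠ s • a + t • (θ *ᵥ a)) {p q r u : F}
    (h : p • a + q • (θ *ᵥ a) + r • z + u • (θ *ᵥ z) = 0) : p = 0 ∧ q = 0 ∧ r = 0 ∧ u = 0 := by
  have hru : r = 0 ∧ u = 0 := by
    by_contra hne
    obtain ⟨s, t, e⟩ := Q.mem_line (a := a) (z := z) (x := r) (y := u) hne ⟨-p, -q, by
      rw [← sub_eq_zero, ← h]; module⟩
    exact hz s t e
  obtain ⟨hr, hu⟩ := hru
  rw [hr, hu, zero_smul, zero_smul, add_zero, add_zero] at h
  have hpq : p = 0 ∧ q = 0 := by
    by_contra hne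
    obtain ⟨s, t, e⟩ := Q.mem_line (a := (0 : V)) (z := a) (x := p) (y := q) hne ⟨0, 0, by
      rw [h]; simp⟩
    exact ha (by rw [e]; simp)
  exact ⟨hpq.1, hpq.2, hr, hu⟩

theorem QF.exists_off (Q : QF θ α β) (a : V) : ∃ z, ∀ s t : F, z ≠ s • a + t • (θ *ᵥ a) := by
  by_contra hc
  push Not at hc
  have htop : (⊤ : Submodule F V) ≤ Submodule.span F (Set.range ![a, θ *ᵥ a]) := fun x _ => by
    obtain ⟨s, t, rfl⟩ := hc x
    exact Submodule.add_mem _ (Submodule.smul_mem _ _ (Submodule.subset_span ⟨0, rfl⟩))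
      (Submodule.smul_mem _ _ (Submodule.subset_span ⟨1, rfl⟩))
  have h1 := (Submodule.finrank_mono htop).trans (finrank_range_le_card ![a, θ *ᵥ a])
  rw [finrank_top, Module.finrank_fintype_fun_eq_card, Fintype.card_sum, Fintype.card_fin] at h1
  omega

/-- Vectors orthogonal to a line over the field lie on it. -/
theorem QF.self_perp (Q : QF θ α β) {a z : V} (ha : a ≠ 0) (h1 : f z a = 0)
    (h2 : f z (θ *ᵥ a) = 0) : ∃ s t : F, z = s • a + t • (θ *ᵥ a) := by
  by_contra hc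
  push Not at hc
  have hspan : ∀ w : V, ∃ p q r u : F, w = p • a + q • (θ *ᵥ a) + r • z + u • (θ *ᵥ z) := by
    have hli : LinearIndependent F ![a, θ *ᵥ a, z, θ *ᵥ z] := by
      rw [Fintype.linearIndependent_iff]
      intro g hg
      simp only [Fin.sum_univ_four, Matrix.cons_val_zero, Matrix.cons_val_one, Matrix.cons_val] at hg
      obtain ⟨h0, h1, h2, h3⟩ := Q.indep ha hc hg
      intro i
      fin_cases i <;> assumption
    have htop := hli.span_eq_top_of_card_eq_finrank (by simp)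
    intro w
    have hw : w ∈ Submodule.span F (Set.range ![a, θ *ᵥ a, z, θ *ᵥ z]) := htop ▸ Submodule.mem_top
    obtain ⟨c, hcw⟩ := (Submodule.mem_span_range_iff_exists_fun F).1 hw
    exact ⟨c 0, c 1, c 2, c 3, by rw [← hcw]; simp [Fin.sum_univ_four]⟩
  refine ha (eq_zero_of_orth fun w => ?_)
  obtain ⟨p, q, r, u, rfl⟩ := hspan w
  have e1 : f a z = 0 := by rw [f_swap, h1, neg_zero]
  have e2 : f a (θ *ᵥ z) = 0 := by rw [← Q.adj, f_swap, h2, neg_zero]
  simp [e1, e2, Q.orth]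

/-- The overgroup moves a vector by any vector of a line it is not orthogonal to. -/
theorem QF.move (Q : QF θ α β) (O : Ov θ α β K) {a a' : V} (ha : a ≠ 0)
    (h : ∀ s t : F, a' - a ≠ s • a + t • (θ *ᵥ a)) : ∃ g ∈ K, (g : M4) *ᵥ a = a' := by
  set v := a' - a with hv
  obtain ⟨x, hx⟩ : ∃ x, x = f a v := ⟨_, rfl⟩
  obtain ⟨y, hy⟩ : ∃ y, y = f a (θ *ᵥ v) := ⟨_, rfl⟩
  obtain ⟨D, hD⟩ : ∃ D, D = y * y + α * y * x + β * (x * x) := ⟨_, rfl⟩
  have hD0 : D ≠ 0 := fun e => by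
    obtain ⟨hy0, hx0⟩ := Q.norm y x (hD ▸ e)
    obtain ⟨s, t, e'⟩ := Q.self_perp (z := v) ha (by rw [f_swap, ← hx, hx0, neg_zero])
      (by rw [f_swap, Q.adj, ← hy, hy0, neg_zero])
    exact h s t e'
  refine ⟨_, O.mem v (α * (y / D) + β * (x / D)) (y / D) (x / D)
    (by linear_combination (α * (y / D) + β * (x / D)) * Q.two), ?_⟩
  rw [Sg_mulVec (Q.orth v), ← hx, ← hy]
  have e1 : (α * (y / D) + β * (x / D)) * x + y / D * y = 1 := by
    field_simp
    linear_combination -hD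
  have e2 : y / D * x + x / D * y = 0 := by
    linear_combination (y / D * x) * Q.two
  rw [e1, e2, hv]
  module

/-- The overgroup is transitive on vectors. -/
theorem QF.trans (Q : QF θ α β) (O : Ov θ α β K) {a a' : V} (ha : a ≠ 0) (ha' : a' ≠ 0) :
    ∃ g ∈ K, (g : M4) *ᵥ a = a' := by
  by_cases h : ∀ s t : F, a' - a ≠ s • a + t • (θ *ᵥ a)
  · exact Q.move O ha h
  push Not at h
  obtain ⟨s, t, e⟩ := h
  obtain ⟨z, hz⟩ := Q.exists_off a
  obtain ⟨g, hg, hga⟩ := Q.move O ha (a' := z) fun p q e' => hz (1 + p) q (by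
    rw [← sub_add_cancel z a, e']; module)
  have hz0 : z ≠ 0 := fun e' => hz 0 0 (by rw [e']; simp)
  obtain ⟨g', hg', hga'⟩ := Q.move O hz0 (a' := a') fun p q e' => by
    have h' : (1 + s) • a + t • (θ *ᵥ a) = (1 + p) • z + q • (θ *ᵥ z) := by
      rw [sub_eq_iff_eq_add] at e e'
      rw [show (1 + p) • z + q • (θ *ᵥ z) = a' by rw [e']; module, e]
      module
    obtain ⟨h1, h2, -, -⟩ := Q.indep ha hz (p := 1 + s) (q := t) (r := -(1 + p)) (u := -q)
      (by rw [← sub_eq_zero.2 h']; module)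
    exact ha' (by
      rw [sub_eq_iff_eq_add.1 e, show s • a + t • (θ *ᵥ a) + a = (1 + s) • a + t • (θ *ᵥ a) by module,
        h1, h2, zero_smul, zero_smul, add_zero])
  exact ⟨g' * g, K.mul_mem hg' hg, by rw [Units.val_mul, ← Matrix.mulVec_mulVec, hga, hga']⟩

/-- Two lines through a vector give a transvection. -/
theorem QF.transvection (Q : QF θ α β) (O : Ov θ α β K) {a c : V} (hca : f c a = 0)
    (hd : f (θ *ᵥ a) c ≠ 0) (hne : f (θ *ᵥ a) c ≠ α)
    (hY : ∀ m₁ m₂ m₃ : F, m₁ + α * m₂ + β * m₃ = 0 → S a c m₁ m₂ m₃ ∈ K) :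
    T (m := 2) 1 a (f (θ *ᵥ a) c + α) ∈ K := by
  set b := θ *ᵥ a with hb
  set d := f b c with hd'
  have hab : f a b = 0 := Q.orth a
  have hac : f a c = 0 := by rw [f_swap, hca, neg_zero]
  have hbc : f c b = d := by
    rw [f_swap]; linear_combination -(f b c) * Q.two
  -- the conjugate of the kernel element
  have hE := hY (β * d⁻¹) 0 d⁻¹ (by linear_combination (β * d⁻¹) * Q.two)
  have hP := O.mem a α 1 0 (by linear_combination α * Q.two)
  have hPc := hY α 1 0 (by linear_combination α * Q.two)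
  have hEa : (S a c (β * d⁻¹) 0 d⁻¹ : M4) *ᵥ a = a := by
    rw [Sg_mulVec hac]; simp [hac]
  have hEb : (S a c (β * d⁻¹) 0 d⁻¹ : M4) *ᵥ b = b + c := by
    rw [Sg_mulVec hac, ← hd']
    simp [show f b a = 0 by rw [f_swap, hab, neg_zero], inv_mul_cancel₀ hd]
  have hQ := mem_conj hE hP
  rw [conj_Sg (O.le hE), hEa, hEb] at hQ
  have habc : f a (b + c) = 0 := by rw [f_add_right, hab, hac, add_zero]
  have key : S a b α 1 0 * S a (b + c) α 1 0 * S a c α 1 0 = T 1 a (d + α) := gl_ext fun x => by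
    have hba : f b a = 0 := by rw [f_swap, hab, neg_zero]
    simp only [Units.val_mul, ← Matrix.mulVec_mulVec, Sg_mulVec hab, Sg_mulVec hac, Sg_mulVec habc,
      T_mulVec, f_add_left, f_add_right, f_smul_left, f_self, hab, hac, hca, hba, hbc, ← hd']
    match_scalars
    all_goals first
      | ring1
      | linear_combination (f x a) * Q.two
      | linear_combination (f x a * d) * Q.two
      | linear_combination (f x b + f x c + f x a * α) * Q.two
      | linear_combination (f x b + f x a * α) * Q.two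
      | linear_combination (f x b + f x c + f x a * α + f x a * d) * Q.two
  rw [← key]
  exact K.mul_mem (K.mul_mem hP hQ) hPc

/-- Maps preserving the lines normalise the field. -/
theorem QF.normal (Q : QF θ α β) (g : M4) (h : ∀ w, ∃ A B : F, g *ᵥ w = A • w + B • (θ *ᵥ w)) :
    ∃ A B : F, ∀ w, g *ᵥ w = A • w + B • (θ *ᵥ w) := by
  choose A B hAB using h
  have same : ∀ a z : V, a ≠ 0 → (∀ s t : F, z ≠ s • a + t • (θ *ᵥ a)) → A z = A a ∧ B z = B a := by
    intro a z ha hz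
    have h0 := hAB (a + z)
    rw [Matrix.mulVec_add, hAB a, hAB z, Matrix.mulVec_add] at h0
    obtain ⟨h1, h2, h3, h4⟩ := Q.indep ha hz (p := A a - A (a + z)) (q := B a - B (a + z))
      (r := A z - A (a + z)) (u := B z - B (a + z)) (by
        rw [← sub_eq_zero.2 h0]; module)
    exact ⟨by linear_combination h3 - h1, by linear_combination h4 - h2⟩
  obtain ⟨a, ha⟩ : ∃ a : V, a ≠ 0 := ⟨Pi.single (Sum.inl 0) 1, by simp⟩
  refine ⟨A a, B a, fun w => ?_⟩
  by_cases hw0 : w = 0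
  · simp [hw0]
  by_cases hw : ∀ s t : F, w ≠ s • a + t • (θ *ᵥ a)
  · rw [hAB w, (same a w ha hw).1, (same a w ha hw).2]
  obtain ⟨z, hz⟩ := Q.exists_off a
  have hzw : ∀ s t : F, z ≠ s • w + t • (θ *ᵥ w) := fun s t e => by
    push Not at hw
    obtain ⟨p, q, rfl⟩ := hw
    refine hz (s * p + t * (q * β)) (s * q + t * p + t * (q * α)) (e.trans ?_)
    rw [Matrix.mulVec_add, Matrix.mulVec_smul, Matrix.mulVec_smul, Q.sq]
    module
  rw [hAB w, ← (same w z hw0 hzw).1, ← (same w z hw0 hzw).2, (same a z ha hz).1, (same a z ha hz).2]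

theorem eq_smul_one {x y : F} (hy : y ≠ 0) {M : M4} (h : x • (1 : M4) + y • M = 0) :
    M = (-(x / y)) • (1 : M4) := by
  rw [add_comm] at h
  rw [← inv_smul_smul₀ hy M, eq_neg_of_add_eq_zero_left h, smul_neg, smul_smul, neg_smul,
    div_eq_inv_mul]

/-- The normaliser is maximal. -/
theorem sp_four_field_maximal [Fintype F] (heven : ¬ Odd (Fintype.card F))
    (h4 : 4 ≤ Fintype.card F) (A : Subalgebra F (Matrix (Fin 2 ⊕ Fin 2) (Fin 2 ⊕ Fin 2) F))
    (hA : IsFieldSubalgebra 2 A) (hsa : IsSelfAdjointFor (Cfsg.sympForm 2 F) A)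
    (halt : ∀ k ∈ A, ∀ v : (Fin 2 ⊕ Fin 2 → F), Cfsg.sympForm 2 F (k *ᵥ v) v = 0) :
    IsMaximalIn (Cfsg.spGL 2 F) (subalgebraNormalizer A ⊓ Cfsg.spGL 2 F) := by
  classical
  refine ⟨lt_of_le_of_ne inf_le_right fun e =>
    CfsgLib.Aschbacher.spGL_not_le_subalgebraNormalizer le_rfl hA one_lt_two (e.ge.trans inf_le_left),
    fun K hle hKG => ?_⟩
  by_cases hKH : K ≤ subalgebraNormalizer A
  · exact Or.inl (le_antisymm (le_inf hKH hKG) hle)
  obtain ⟨g, hgK, hgN⟩ := SetLike.not_le_iff_exists.1 hKH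
  have h2 : (2 : F) = 0 := by
    have hc : ringChar F = 2 := by
      by_contra h
      exact heven (Nat.odd_iff.2 (FiniteField.odd_card_of_char_ne_two h))
    haveI : CharP F 2 := hc ▸ ringChar.charP F
    exact CharTwo.two_eq_zero
  -- a generator
  haveI : Module.Finite F A := Module.finite_of_finrank_eq_succ hA.finrank_eq
  obtain ⟨t, ht, htone⟩ : ∃ t : A, t ≠ 0 ∧ ∀ x : F, (t : M4) ≠ x • 1 := by
    by_contra hc
    push Not at hc
    have hle1 : finrank F A ≤ 1 := by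
      refine finrank_le_one (⟨1, A.one_mem⟩ : A) fun w => ?_
      by_cases hw : w = 0
      · exact ⟨0, by simp [hw]⟩
      · obtain ⟨x, hx⟩ := hc w hw
        exact ⟨x, Subtype.ext hx.symm⟩
    rw [hA.finrank_eq] at hle1
    omega
  obtain ⟨θ, hθ⟩ : ∃ θ : M4, θ = t := ⟨_, rfl⟩
  have hθA : θ ∈ A := hθ ▸ t.2
  have hspan : ∀ k ∈ A, ∃ x y : F, k = x • (1 : M4) + y • θ := by
    intro k hk
    have hli : LinearIndependent F ![(⟨1, A.one_mem⟩ : A), t] := by
      rw [LinearIndependent.pair_iff]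
      intro x y e
      have e' : x • (1 : M4) + y • (t : M4) = 0 := congrArg Subtype.val e
      by_cases hy : y = 0
      · rw [hy, zero_smul, add_zero] at e'
        exact ⟨(smul_eq_zero.1 e').resolve_right one_ne_zero, hy⟩
      · exact absurd (eq_smul_one hy e') (htone _)
    have htop := hli.span_eq_top_of_card_eq_finrank (by simp [hA.finrank_eq])
    obtain ⟨c, hc⟩ := (Submodule.mem_span_range_iff_exists_fun F).1
      (htop ▸ Submodule.mem_top : (⟨k, hk⟩ : A) ∈ _)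
    refine ⟨c 0, c 1, ?_⟩
    have := congrArg Subtype.val hc
    simpa [Fin.sum_univ_two, hθ] using this.symm
  obtain ⟨β, α, hsq⟩ := hspan _ (A.mul_mem hθA hθA)
  have hsq' : ∀ x, θ *ᵥ (θ *ᵥ x) = α • (θ *ᵥ x) + β • x := fun x => by
    rw [Matrix.mulVec_mulVec, hsq, Matrix.add_mulVec, Matrix.smul_mulVec, Matrix.smul_mulVec,
      Matrix.one_mulVec, add_comm]
  have Q : QF θ α β := by
    refine ⟨h2, hsq', fun x y => by simp only [pairing, one_mul]; exact hsa θ hθA x y,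
      fun x => by simp only [pairing, one_mul]; exact halt θ hθA x, fun x y e => ?_⟩
    by_contra hne
    have hx : x • (1 : M4) + y • θ ≠ 0 := fun h0 => by
      by_cases hy : y = 0
      · rw [hy, zero_smul, add_zero] at h0
        exact hne ⟨(smul_eq_zero.1 h0).resolve_right one_ne_zero, hy⟩
      · exact htone _ (hθ ▸ eq_smul_one hy h0)
    obtain ⟨w, hwA, hw⟩ := hA.inv _ (A.add_mem (A.smul_mem A.one_mem x) (A.smul_mem hθA y)) hx
    have h0 : ((x + α * y) • (1 : M4) + y • θ) * (x • (1 : M4) + y • θ) = 0 := by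
      simp only [add_mul, mul_add, smul_mul_assoc, mul_smul_comm, one_mul, mul_one, hsq, smul_smul]
      match_scalars
      · linear_combination e
      · linear_combination (x * y + α * y * y) * h2
    have h1 : (x + α * y) • (1 : M4) + y • θ = 0 := by
      have := congrArg (· * w) h0
      rwa [mul_assoc, hw, mul_one, zero_mul] at this
    by_cases hy : y = 0
    · exact hne ⟨by simpa [hy] using h1, hy⟩
    · exact htone _ (hθ ▸ eq_smul_one hy h1)
  have O : Ov θ α β K := by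
    refine ⟨hKG, fun v m₁ m₂ m₃ hm => hle ⟨fun k => ?_,
      (Cfsg.spGL 2 F).mul_mem ((Cfsg.spGL 2 F).mul_mem (T_mem _ _) (T_mem _ _)) (T_mem _ _)⟩⟩
    have hcomm : ∀ k ∈ A, (S v (θ *ᵥ v) m₁ m₂ m₃ : M4) * k = k * (S v (θ *ᵥ v) m₁ m₂ m₃ : M4) := by
      intro k hk
      obtain ⟨x, y, rfl⟩ := hspan k hk
      refine Matrix.ext_of_mulVec_single fun i => ?_
      simp only [← Matrix.mulVec_mulVec, Matrix.add_mulVec, Matrix.smul_mulVec, Matrix.one_mulVec,
        Matrix.mulVec_add, Matrix.mulVec_smul, Q.comm v hm]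
    constructor
    · intro hk
      rwa [hcomm k hk, mul_assoc, Units.mul_inv, mul_one]
    · intro hk
      have := hcomm _ hk
      rw [mul_assoc _ _ (S v (θ *ᵥ v) m₁ m₂ m₃ : M4),
        Units.inv_mul, mul_one] at this
      have h' := congrArg (fun M => ((S v (θ *ᵥ v) m₁ m₂ m₃)⁻¹ : GL ι F).val * M) this
      simp only [← mul_assoc, Units.inv_mul, one_mul] at h'
      rwa [← h']
  -- a moved line
  have hcan : ∀ w, (g : M4) *ᵥ ((g⁻¹ : GL ι F).val *ᵥ w) = w := fun w => by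
    rw [Matrix.mulVec_mulVec, Units.mul_inv, Matrix.one_mulVec]
  obtain ⟨v, hv⟩ : ∃ v, ∀ x y : F, (g : M4) *ᵥ (θ *ᵥ v) ≠ x • ((g : M4) *ᵥ v) + y • (θ *ᵥ ((g : M4) *ᵥ v)) := by
    by_contra hc
    push Not at hc
    refine hgN ?_
    obtain ⟨x, y, hxy⟩ := Q.normal ((g : M4) * θ * (g⁻¹ : GL ι F).val) fun w => by
      obtain ⟨x, y, e⟩ := hc ((g⁻¹ : GL ι F).val *ᵥ w)
      rw [hcan] at e
      exact ⟨x, y, by rw [← Matrix.mulVec_mulVec, ← Matrix.mulVec_mulVec]; exact e⟩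
    have hconj : (g : M4) * θ * (g⁻¹ : GL ι F).val = x • (1 : M4) + y • θ :=
      Matrix.ext_of_mulVec_single fun i => by
        rw [hxy, Matrix.add_mulVec, Matrix.smul_mulVec, Matrix.smul_mulVec, Matrix.one_mulVec]
    have hy : y ≠ 0 := fun h0 => by
      rw [h0, zero_smul, add_zero] at hconj
      refine htone x ?_
      rw [← hθ]
      calc θ = (g⁻¹ : GL ι F).val * ((g : M4) * θ * (g⁻¹ : GL ι F).val) * (g : M4) := by
            simp only [← mul_assoc, Units.inv_mul, one_mul]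
            rw [mul_assoc, Units.inv_mul, mul_one]
        _ = x • 1 := by rw [hconj]; simp
    intro k
    constructor
    · intro hk
      obtain ⟨a, b, rfl⟩ := hspan k hk
      rw [Matrix.mul_add, Matrix.add_mul, Matrix.mul_smul, Matrix.mul_smul, Matrix.smul_mul,
        Matrix.smul_mul, Matrix.mul_one, Units.mul_inv, hconj]
      exact A.add_mem (A.smul_mem A.one_mem a)
        (A.smul_mem (A.add_mem (A.smul_mem A.one_mem x) (A.smul_mem hθA y)) b)
    · intro hk
      obtain ⟨a, b, e⟩ := hspan _ hk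
      have hk' : k = (g⁻¹ : GL ι F).val * ((g : M4) * ((a - b * x / y) • (1 : M4) + (b / y) • θ) *
          (g⁻¹ : GL ι F).val) * (g : M4) := by
        rw [Matrix.mul_add, Matrix.add_mul, Matrix.mul_smul, Matrix.mul_smul, Matrix.smul_mul,
          Matrix.smul_mul, Matrix.mul_one, Units.mul_inv, hconj, smul_add, smul_smul, smul_smul,
          ← add_assoc, ← add_smul, show a - b * x / y + b / y * x = a by ring,
          div_mul_cancel₀ _ hy, ← e]
        simp only [← mul_assoc, Units.inv_mul, one_mul]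
        rw [mul_assoc, Units.inv_mul, mul_one]
      rw [hk']
      simp only [← mul_assoc, Units.inv_mul, one_mul]
      rw [mul_assoc, Units.inv_mul, mul_one]
      exact A.add_mem (A.smul_mem A.one_mem _) (A.smul_mem hθA _)
  set a₀ := (g : M4) *ᵥ v with ha₀
  set c₀ := (g : M4) *ᵥ (θ *ᵥ v) with hc₀
  have hv0 : v ≠ 0 := fun e => hv 0 0 (by simp [hc₀, e])
  have ha : a₀ ≠ 0 := fun e => hv0 (Matrix.mulVec_injective_iff_isUnit.2 g.isUnit
    (show (g : M4) *ᵥ v = (g : M4) *ᵥ 0 by rw [← ha₀, e, Matrix.mulVec_zero]))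
  have hgB : ∀ x y, f ((g : M4) *ᵥ x) ((g : M4) *ᵥ y) = f x y := fun x y => by
    simp only [pairing, one_mul]; exact hKG hgK x y
  have hca : f c₀ a₀ = 0 := by rw [hc₀, ha₀, hgB]; exact Q.alt v
  have hd : f (θ *ᵥ a₀) c₀ ≠ 0 := fun e => by
    obtain ⟨s, t, e'⟩ := Q.self_perp ha hca (by rw [f_swap, e, neg_zero])
    exact hv s t e'
  obtain ⟨l, hl0, hl⟩ : ∃ l : F, l ≠ 0 ∧ l * l * f (θ *ᵥ a₀) c₀ ≠ α := by
    by_contra hc
    push Not at hc
    have h1 := hc 1 one_ne_zero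
    have : Finset.univ ⊆ ({0, 1} : Finset F) := fun l _ => by
      by_cases h : l = 0
      · simp [h]
      · have h' := hc l h
        rw [← h1] at h'
        have hs : (l - 1) * (l - 1) = 0 := by
          linear_combination mul_right_cancel₀ hd (by linear_combination h' : l * l * f (θ *ᵥ a₀) c₀ = 1 * f (θ *ᵥ a₀) c₀) + (1 - l) * h2
        simp [sub_eq_zero.1 (mul_self_eq_zero.1 hs)]
    have := Finset.card_le_card this
    rw [Finset.card_univ] at this
    have := this.trans Finset.card_le_two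
    omega
  have hT := Q.transvection O (a := l • a₀) (c := l • c₀) (by simp [hca])
    (by simpa [Matrix.mulVec_smul, ← mul_assoc, hl0] using hd)
    (by simpa [Matrix.mulVec_smul, ← mul_assoc] using hl) fun m₁ m₂ m₃ hm => by
      have := mem_conj hgK (O.mem (l • v) m₁ m₂ m₃ hm)
      rwa [conj_Sg (hKG hgK), Matrix.mulVec_smul, Matrix.mulVec_smul, Matrix.mulVec_smul,
        ← ha₀, ← hc₀] at this
  obtain ⟨τ, hτ, hτdef⟩ : ∃ τ : F, τ ≠ 0 ∧ τ = f (θ *ᵥ (l • a₀)) (l • c₀) + α := by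
    refine ⟨_, fun e => hl ?_, rfl⟩
    simp only [Matrix.mulVec_smul, f_smul_left, f_smul_right] at e
    linear_combination e - α * h2
  rw [← hτdef] at hT
  refine Or.inr (le_antisymm hKG (spGL_le_of_centre fun w c => ?_))
  by_cases hw : w = 0
  · rw [hw, show sT (0 : V) c = 1 from gl_ext fun x => by rw [sT_mulVec]; simp]
    exact K.one_mem
  obtain ⟨k, hk, hkw⟩ := Q.trans O (a := l • a₀) (smul_ne_zero hl0 ha) (a' := w) hw
  obtain ⟨r, hr⟩ : ∃ r : F, r * r = c / τ := by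
    haveI : CharP F 2 := CharTwo.of_one_ne_zero_of_two_eq_zero one_ne_zero h2
    obtain ⟨y, hy⟩ := FiniteField.isSquare_of_char_two (ringChar.eq F 2) (c / τ)
    exact ⟨y, hy.symm⟩
  by_cases hr0 : r = 0
  · rw [hr0, mul_zero, eq_comm, div_eq_zero_iff, or_iff_left hτ] at hr
    rw [hr, show sT w (0 : F) = 1 from gl_ext fun x => by rw [sT_mulVec]; simp]
    exact K.one_mem
  obtain ⟨k', hk', hkw'⟩ := Q.trans O hw (a' := r • w) (smul_ne_zero hr0 hw)
  have := mem_conj (K.mul_mem hk' hk) hT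
  rw [conj_T (hKG (K.mul_mem hk' hk)), Units.val_mul, ← Matrix.mulVec_mulVec, hkw, hkw', T_smul,
    T, one_mul, sq, hr, div_mul_cancel₀ _ hτ] at this
  exact this

end CfsgLib.MaxSub.SpFourField
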